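import Groth.Agent.PConeLib.Basic
import Mathlib.AlgebraicGeometry.Fiber
import Mathlib.Algebra.Polynomial.Laurent
import Mathlib.RingTheory.TensorProduct.MonoidAlgebra
import Mathlib.RingTheory.PolynomialAlgebra
import Mathlib.RingTheory.FiniteType

/-!
# Fibres of morphisms which are locally `Spec L → Spec R`
-/

set_option autoImplicit false
set_option linter.style.haveILetI false
set_option backward.isDefEq.respectTransparency false
set_option backward.isDefEq.respectTransparency.types false

universe u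

open CategoryTheory CategoryTheory.Limits AlgebraicGeometry TopologicalSpace HomogeneousLocalization
open scoped TensorProduct

noncomputable section

namespace Groth.Agent.PConeLib

/-- The fibre over a point in a chart `Spec L → Spec R`. -/
theorem exists_fibre_iso {X Y : Scheme.{u}} (π : X ⟶ Y) (R L : Type u) [CommRing R] [CommRing L] [Algebra R L]
    (i : Spec (CommRingCat.of R) ⟶ Y) [IsOpenImmersion i] (p : Spec (CommRingCat.of L) ⟶ X)
    (hP : IsPullback p (Spec.map (CommRingCat.ofHom (algebraMap R L))) π i) (y : Y) (hy : y ∈ Set.range i)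
    (L' : Type u) [CommRing L'] [Algebra (Y.residueField y) L']
    (bc : ∀ (_ : Algebra R (Y.residueField y)),
      Nonempty ((Y.residueField y) ⊗[R] L ≃ₐ[Y.residueField y] L')) :
    ∃ e : pullback π (Y.fromSpecResidueField y) ≅ Spec (CommRingCat.of L'),
      e.hom ≫ Spec.map (CommRingCat.ofHom (algebraMap (Y.residueField y) L')) =
        pullback.snd π (Y.fromSpecResidueField y) := by
  have hr : Set.range (Y.fromSpecResidueField y) ⊆ Set.range i := by
    rw [Scheme.range_fromSpecResidueField]; exact Set.singleton_subset_iff.2 hy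
  let k := IsOpenImmersion.lift i (Y.fromSpecResidueField y) hr
  have hk : k ≫ i = Y.fromSpecResidueField y := IsOpenImmersion.lift_fac _ _ _
  letI : Algebra R (Y.residueField y) := (Spec.preimage k).hom.toAlgebra
  have hkmap : Spec.map (CommRingCat.ofHom (algebraMap R (Y.residueField y))) = k := Spec.map_preimage k
  obtain ⟨bc⟩ := bc inferInstance
  let φκ : Spec (CommRingCat.of (Y.residueField y)) ⟶ Spec (CommRingCat.of R) :=
    Spec.map (CommRingCat.ofHom (algebraMap R (Y.residueField y)))
  let φL : Spec (CommRingCat.of L) ⟶ Spec (CommRingCat.of R) := Spec.map (CommRingCat.ofHom (algebraMap R L))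
  have h2 : IsPullback (pullback.snd φκ φL ≫ p) (pullback.fst φκ φL) π (φκ ≫ i) :=
    (IsPullback.of_hasPullback φκ φL).flip.paste_horiz hP
  have h2' : IsPullback (pullback.snd φκ φL ≫ p) (pullback.fst φκ φL) π (Y.fromSpecResidueField y) := by
    have : φκ ≫ i = Y.fromSpecResidueField y := (congrArg (· ≫ i) hkmap).trans hk
    rwa [this] at h2
  let I : Spec (CommRingCat.of ((Y.residueField y) ⊗[R] L)) ≅ Spec (CommRingCat.of L') :=
    Scheme.Spec.mapIso bc.toRingEquiv.toCommRingCatIso.symm.op
  refine ⟨h2'.isoPullback.symm ≪≫ pullbackSpecIso R (Y.residueField y) L ≪≫ I, ?_⟩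
  rw [Iso.trans_hom, Iso.trans_hom, Iso.symm_hom, Category.assoc, Category.assoc]
  have hI : I.hom ≫ Spec.map (CommRingCat.ofHom (algebraMap (Y.residueField y) L')) =
      Spec.map (CommRingCat.ofHom (algebraMap (Y.residueField y) ((Y.residueField y) ⊗[R] L))) := by
    change Spec.map _ ≫ Spec.map _ = _
    rw [← Spec.map_comp]
    congr 1
    refine CommRingCat.hom_ext (RingHom.ext fun c => ?_)
    exact bc.symm.commutes c
  rw [hI, pullbackSpecIso_hom_fst', IsPullback.isoPullback_inv_snd]

section Laurent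

variable {R A : Type u} [CommRing R] [CommRing A] [Algebra R A] {𝒜 : ℕ → Submodule R A} [GradedAlgebra 𝒜]

/-- `A₍f₎[T, T⁻¹] ≅ A_f` for `f` of degree one. -/
theorem exists_laurentEquiv {f : A} (hf : f ∈ 𝒜 1) :
    ∃ ψ : LaurentPolynomial (Away 𝒜 f) ≃+* Localization.Away f,
      ∀ c, ψ (LaurentPolynomial.C c) = algebraMap (Away 𝒜 f) (Localization.Away f) c := by
  classical
  let A0 := Away 𝒜 f
  let u : (Localization.Away f)ˣ := (IsLocalization.Away.algebraMap_isUnit (S := Localization.Away f) f).unit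
  let ψ : LaurentPolynomial A0 →+* Localization.Away f :=
    LaurentPolynomial.eval₂ (algebraMap A0 (Localization.Away f)) u
  let hm : ∀ (i : ℕ) (a : 𝒜 i), a.1 ∈ 𝒜 (i • 1) := fun i a => by rw [smul_eq_mul, mul_one]; exact a.2
  let g : ∀ i : ℕ, (𝒜 i) →+ LaurentPolynomial A0 := fun i => AddMonoidHom.mk'
    (fun a => LaurentPolynomial.C (Away.mk 𝒜 hf i a.1 (hm i a)) * LaurentPolynomial.T (i : ℤ))
    fun a b => by
      rw [← add_mul, ← map_add]
      congr 2
      refine val_injective _ ?_
      rw [val_add, Away.val_mk, Away.val_mk, Away.val_mk, Localization.add_mk_self]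
      rfl
  let θ : (DirectSum ℕ fun i => 𝒜 i) →+* LaurentPolynomial A0 :=
    (DirectSum.toSemiring g (by
      change LaurentPolynomial.C (Away.mk 𝒜 hf 0 1 _) * LaurentPolynomial.T ((0 : ℕ) : ℤ) = 1
      rw [Nat.cast_zero, LaurentPolynomial.T_zero, mul_one, ← map_one LaurentPolynomial.C]
      congr 1
      refine val_injective _ ?_
      rw [Away.val_mk, val_one, ← Localization.mk_one]
      congr 1
      exact Subtype.ext (pow_zero f)) (fun {i j} a b => by
      change LaurentPolynomial.C (Away.mk 𝒜 hf (i + j) (a.1 * b.1) _) * LaurentPolynomial.T ((i + j : ℕ) : ℤ) =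
        LaurentPolynomial.C (Away.mk 𝒜 hf i a.1 _) * LaurentPolynomial.T (i : ℤ) *
          (LaurentPolynomial.C (Away.mk 𝒜 hf j b.1 _) * LaurentPolynomial.T (j : ℤ))
      rw [mul_mul_mul_comm, ← map_mul, ← LaurentPolynomial.T_add, Nat.cast_add]
      congr 2
      refine val_injective _ ?_
      rw [val_mul, Away.val_mk, Away.val_mk, Away.val_mk, Localization.mk_mul]
      congr 1
      exact Subtype.ext (pow_add f i j)))
  let ρ₀ : A →+* LaurentPolynomial A0 := θ.comp (DirectSum.decomposeRingEquiv 𝒜).toRingHom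
  have hρ₀ : ∀ (i : ℕ) (a : A) (ha : a ∈ 𝒜 i), ρ₀ a =
      LaurentPolynomial.C (Away.mk 𝒜 hf i a (hm i ⟨a, ha⟩)) * LaurentPolynomial.T (i : ℤ) := fun i a ha => by
    have h1 : (DirectSum.decomposeRingEquiv 𝒜) a = DirectSum.of (fun i => 𝒜 i) i ⟨a, ha⟩ :=
      DirectSum.decompose_of_mem 𝒜 ha
    change θ ((DirectSum.decomposeRingEquiv 𝒜) a) = _
    rw [h1]
    exact (DirectSum.toSemiring_of g _ _ i ⟨a, ha⟩).trans rfl
  have hf1 : ρ₀ f = LaurentPolynomial.T 1 := by
    rw [hρ₀ 1 f hf, Nat.cast_one]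
    have : Away.mk 𝒜 hf 1 f (hm 1 ⟨f, hf⟩) = 1 := by
      refine val_injective _ ?_
      rw [Away.val_mk, val_one, ← Localization.mk_self (⟨f ^ 1, 1, rfl⟩ : Submonoid.powers f)]
      congr 1
      exact (pow_one f).symm
    rw [this, map_one, one_mul]
  let ρ : Localization.Away f →+* LaurentPolynomial A0 :=
    Localization.awayLift ρ₀ f (by rw [hf1]; exact LaurentPolynomial.isUnit_T 1)
  have hρalg : ∀ a, ρ (algebraMap A (Localization.Away f) a) = ρ₀ a := IsLocalization.lift_eq _
  have hval : ∀ (n : ℕ) (a : A) (ha : a ∈ 𝒜 (n • 1)),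
      algebraMap A0 (Localization.Away f) (Away.mk 𝒜 hf n a ha) * algebraMap A (Localization.Away f) (f ^ n) =
        algebraMap A (Localization.Away f) a := fun n a ha => by
    change (Away.mk 𝒜 hf n a ha).val * _ = _
    rw [Away.val_mk, Localization.mk_eq_mk', IsLocalization.mk'_spec]
  have hψT : ∀ i : ℕ, ψ (LaurentPolynomial.T (i : ℤ)) = algebraMap A (Localization.Away f) (f ^ i) := fun i => by
    simp [ψ, u]
  have hψC : ∀ c : A0, ψ (LaurentPolynomial.C c) = algebraMap A0 (Localization.Away f) c :=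
    fun c => LaurentPolynomial.eval₂_C _ _ _
  have h1 : ψ.comp ρ = RingHom.id _ := by
    refine IsLocalization.ringHom_ext (Submonoid.powers f) (RingHom.ext fun a => ?_)
    change ψ (ρ (algebraMap A (Localization.Away f) a)) = algebraMap A (Localization.Away f) a
    rw [hρalg, ← DirectSum.sum_support_decompose 𝒜 a]
    simp only [map_sum]
    refine Finset.sum_congr rfl fun i _ => ?_
    rw [hρ₀ i _ (SetLike.coe_mem _), map_mul, hψT]
    rw [hψC]
    exact hval i _ _
  have hC : ∀ c : A0, ρ (algebraMap A0 (Localization.Away f) c) = LaurentPolynomial.C c := by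
    intro c
    obtain ⟨n, a, ha, rfl⟩ := Away.mk_surjective 𝒜 hf c
    have h := congrArg ρ (hval n a ha)
    rw [map_mul, hρalg, hρalg, map_pow, hf1, LaurentPolynomial.T_pow, mul_one,
      hρ₀ n a (by rwa [smul_eq_mul, mul_one] at ha)] at h
    exact (LaurentPolynomial.isUnit_T (n : ℤ)).mul_left_inj.1 h
  have h2 : ρ.comp ψ = RingHom.id _ := by
    refine RingHom.ext fun p => ?_
    induction p using LaurentPolynomial.induction_on' with
    | add p q hp hq => simp only [map_add, hp, hq]
    | C_mul_T n c =>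
      change ρ (ψ _) = _
      rw [map_mul ψ, map_mul ρ]
      rw [hψC, hC, RingHom.id_apply]
      congr 1
      rcases Int.eq_nat_or_neg n with ⟨k, rfl | rfl⟩
      · rw [hψT, hρalg, map_pow, hf1, LaurentPolynomial.T_pow, mul_one]
      · refine (LaurentPolynomial.isUnit_T (k : ℤ)).mul_left_inj.1 ?_
        have e : ρ (ψ (LaurentPolynomial.T (k : ℤ))) = LaurentPolynomial.T (k : ℤ) := by
          rw [hψT, hρalg, map_pow, hf1, LaurentPolynomial.T_pow, mul_one]
        conv_lhs => rw [← e]
        rw [← map_mul ρ, ← map_mul ψ, ← LaurentPolynomial.T_add, neg_add_cancel, LaurentPolynomial.T_zero,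
          map_one, map_one]
  exact ⟨RingEquiv.ofRingHom ψ ρ h1 h2, hψC⟩

end Laurent

end Groth.Agent.PConeLib

namespace Groth.Agent.PConeLib

section Poly

variable {R A : Type u} [CommRing R] [CommRing A] [Algebra R A] {𝒜 : ℕ → Submodule R A} [GradedAlgebra 𝒜]
  {B : Type u} [CommRing B] [Algebra R B] {ℬ : ℕ → Submodule R B} [GradedAlgebra ℬ] [Algebra A B]

/-- `A₍f₎[T] ≅ A[z]₍f₎` for `f` of degree one. -/
theorem exists_polyEquiv (φ : 𝒜 →+*ᵍ ℬ) (hφ : ∀ a : A, φ a = algebraMap A B a) (z : B) (hz : z ∈ ℬ 1)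
    (hhat : Function.Bijective (Polynomial.aeval (R := A) z)) {f : A} (hf : f ∈ 𝒜 1) :
    ∃ ψ : Polynomial (Away 𝒜 f) ≃+* Away ℬ (φ f), ∀ c, ψ (Polynomial.C c) = Away.map φ f c := by
  classical
  let A0 := Away 𝒜 f
  let A0' := Away ℬ (φ f)
  have hfB : φ f ∈ ℬ 1 := φ.2 hf
  let X' : A0' := Away.mk ℬ hfB 1 z (by rwa [one_smul])
  let ψ : Polynomial A0 →+* A0' := Polynomial.eval₂RingHom (Away.map φ f) X'
  have hψC : ∀ c, ψ (Polynomial.C c) = Away.map φ f c := fun c => Polynomial.eval₂_C _ _
  let e := AlgEquiv.ofBijective (Polynomial.aeval (R := A) z) hhat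
  let ch : B →+* Polynomial (Localization.Away f) :=
    (Polynomial.mapRingHom (algebraMap A (Localization.Away f))).comp e.symm.toAlgHom.toRingHom
  have hchA : ∀ a, ch (φ a) = Polynomial.C (algebraMap A (Localization.Away f) a) := fun a => by
    change Polynomial.map _ (e.symm (φ a)) = _
    rw [hφ, AlgEquiv.commutes, ← Polynomial.C_eq_algebraMap, Polynomial.map_C]
  have hchz : ch z = Polynomial.X := by
    change Polynomial.map _ (e.symm z) = _
    have : e.symm z = Polynomial.X := by
      rw [AlgEquiv.symm_apply_eq]; exact (Polynomial.aeval_X z).symm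
    rw [this, Polynomial.map_X]
  have huf : IsUnit (ch (φ f)) := by
    rw [hchA]; exact (IsLocalization.Away.algebraMap_isUnit f).map Polynomial.C
  let χ₀ : Localization.Away (φ f) →+* Polynomial (Localization.Away f) := Localization.awayLift ch (φ f) huf
  let χ : A0' →+* Polynomial (Localization.Away f) := χ₀.comp (algebraMap A0' (Localization.Away (φ f)))
  have hχ : ∀ (n : ℕ) (b : B) (hb : b ∈ ℬ (n • 1)),
      χ (Away.mk ℬ hfB n b hb) * Polynomial.C (algebraMap A (Localization.Away f) (f ^ n)) = ch b := fun n b hb => by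
    rw [← hchA, map_pow φ]
    change χ₀ (Away.mk ℬ hfB n b hb).val * _ = _
    rw [Away.val_mk]
    have hl : ∀ y : B, χ₀ (algebraMap B (Localization.Away (φ f)) y) = ch y := fun y => IsLocalization.lift_eq _ _
    rw [← hl, ← map_mul, Localization.mk_eq_mk', IsLocalization.mk'_spec, hl]
  have hu : ∀ n : ℕ, IsUnit (algebraMap A (Localization.Away f) (f ^ n)) := fun n => by
    rw [map_pow]; exact (IsLocalization.Away.algebraMap_isUnit f).pow n
  have hχC : ∀ c : A0, χ (Away.map φ f c) = Polynomial.C c.val := fun c => by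
    obtain ⟨n, a, ha, rfl⟩ := Away.mk_surjective 𝒜 hf c
    refine ((hu n).map Polynomial.C).mul_left_inj.1 ?_
    rw [Away.map_mk]
    refine (hχ n (φ a) _).trans ?_
    rw [hchA, ← map_mul, Away.val_mk, Localization.mk_eq_mk', IsLocalization.mk'_spec]
  let w : (Localization.Away f)ˣ := (hu 1).unit⁻¹
  have hχX : χ X' = Polynomial.C (w : Localization.Away f) * Polynomial.X := by
    refine ((hu 1).map Polynomial.C).mul_left_inj.1 ?_
    rw [hχ, hchz, mul_comm, ← mul_assoc, ← map_mul]
    rw [show algebraMap A (Localization.Away f) (f ^ 1) * (w : Localization.Away f) = 1 from (hu 1).mul_val_inv,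
      map_one, one_mul]
  have hcoef : ∀ (p : Polynomial A0) (k : ℕ),
      (χ (ψ p)).coeff k = (p.coeff k).val * (w : Localization.Away f) ^ k := by
    intro p k
    induction p using Polynomial.induction_on' with
    | add p q hp hq => rw [map_add, map_add, Polynomial.coeff_add, hp, hq, Polynomial.coeff_add, val_add, add_mul]
    | monomial m c =>
      rw [← Polynomial.C_mul_X_pow_eq_monomial, map_mul ψ, map_pow ψ, hψC, map_mul χ, map_pow χ, hχC,
        show ψ Polynomial.X = X' from Polynomial.eval₂_X _ _, hχX, mul_pow, ← map_pow, ← mul_assoc, ← map_mul,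
        Polynomial.coeff_C_mul_X_pow, Polynomial.coeff_C_mul_X_pow]
      split_ifs with h
      · subst h; rfl
      · rw [val_zero, zero_mul]
  refine ⟨RingEquiv.ofBijective ψ ⟨(injective_iff_map_eq_zero ψ).2 fun p hp => Polynomial.ext fun k => ?_,
    fun x => ?_⟩, hψC⟩
  · have h0 := hcoef p k
    rw [hp, map_zero, Polynomial.coeff_zero] at h0
    refine val_injective _ ?_
    rw [Polynomial.coeff_zero, val_zero]
    exact (w ^ k).isUnit.mul_left_eq_zero.1 (by rw [Units.val_pow_eq_pow_val]; exact h0.symm)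
  · obtain ⟨n, b, hb, rfl⟩ := Away.mk_surjective ℬ hfB x
    obtain ⟨P, hP⟩ := hhat.2 b
    have hb' : b ∈ ℬ n := by rwa [smul_eq_mul, mul_one] at hb
    let c : ℕ → A := fun i => if i ≤ n then (DirectSum.decompose 𝒜 (P.coeff i) (n - i) : A) else 0
    have hc : ∀ i, c i ∈ 𝒜 (n - i) := fun i => by
      by_cases h : i ≤ n
      · simp only [c, if_pos h]; exact SetLike.coe_mem _
      · simp only [c, if_neg h]; exact Submodule.zero_mem _
    have hzi : ∀ i, z ^ i ∈ ℬ i := fun i => by simpa using SetLike.pow_mem_graded i hz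
    have hpiece : ∀ i, (DirectSum.decompose ℬ (φ (P.coeff i) * z ^ i) n : B) = φ (c i) * z ^ i := by
      intro i
      rw [DirectSum.coe_decompose_mul_of_right_mem (𝒜 := ℬ) n (hzi i)]
      by_cases h : i ≤ n
      · rw [if_pos h]
        simp only [c, if_pos h]
        rw [GradedRingHom.map_directSumDecompose 𝒜 ℬ φ]
      · rw [if_neg h]
        simp [c, if_neg h]
    have hbsum : b = ∑ i ∈ Finset.range (P.natDegree + 1), φ (c i) * z ^ i := by
      conv_lhs => rw [← DirectSum.decompose_of_mem_same ℬ hb', ← hP, Polynomial.aeval_eq_sum_range,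
        DirectSum.decompose_sum, DFinsupp.finsetSum_apply, AddSubmonoidClass.coe_finsetSum]
      exact Finset.sum_congr rfl fun i _ => by rw [Algebra.smul_def, ← hφ]; exact hpiece i
    refine ⟨∑ i ∈ Finset.range (P.natDegree + 1),
      Polynomial.C (Away.mk 𝒜 hf (n - i) (c i) (by rw [smul_eq_mul, mul_one]; exact hc i)) * Polynomial.X ^ i, ?_⟩
    refine val_injective _ ?_
    change algebraMap A0' (Localization.Away (φ f)) (ψ _) = (Away.mk ℬ hfB n b hb).val
    rw [map_sum, map_sum, Away.val_mk, Localization.mk_eq_mk', eq_comm, IsLocalization.mk'_eq_iff_eq_mul, Finset.sum_mul,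
      hbsum, map_sum]
    refine Finset.sum_congr rfl fun i _ => ?_
    rw [map_mul ψ, map_pow ψ, hψC, show ψ Polynomial.X = X' from Polynomial.eval₂_X _ _, map_mul, map_pow]
    have h1 : ∀ (m : ℕ) (y : B) (hy : y ∈ ℬ (m • 1)),
        algebraMap A0' (Localization.Away (φ f)) (Away.mk ℬ hfB m y hy) * algebraMap B (Localization.Away (φ f)) (φ f) ^ m =
          algebraMap B (Localization.Away (φ f)) y := fun m y hy => by
      change (Away.mk ℬ hfB m y hy).val * _ = _
      rw [Away.val_mk, Localization.mk_eq_mk', ← map_pow (algebraMap B (Localization.Away (φ f)))]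
      exact IsLocalization.mk'_spec _ y (⟨φ f ^ m, m, rfl⟩ : Submonoid.powers (φ f))
    rw [Away.map_mk]
    by_cases hin : i ≤ n
    · change algebraMap B (Localization.Away (φ f)) (φ (c i)) * algebraMap B (Localization.Away (φ f)) z ^ i = _
      rw [show algebraMap B (Localization.Away (φ f)) ((φ f) ^ n) =
        algebraMap B (Localization.Away (φ f)) (φ f) ^ (n - i) * (algebraMap B (Localization.Away (φ f)) (φ f) ^ 1) ^ i by
          rw [map_pow, ← pow_mul, ← pow_add]; congr 1; omega,
        map_mul (algebraMap A0' (Localization.Away (φ f))), map_pow (algebraMap A0' (Localization.Away (φ f))),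
        mul_mul_mul_comm, ← mul_pow, h1, h1]
    · have hc0 : φ (c i) = 0 := by rw [show c i = 0 from if_neg hin, map_zero]
      have hz' : ∀ (y : B) hy, y = 0 → Away.mk ℬ hfB (n - i) y hy = 0 := fun y hy hy0 =>
        val_injective _ (by rw [Away.val_mk, val_zero]; subst hy0; rw [Localization.mk_zero])
      rw [hz' _ _ hc0, hc0]
      simp

end Poly

section Cover

variable {R A : Type u} [CommRing R] [CommRing A] [Algebra R A] {𝒜 : ℕ → Submodule R A} [GradedAlgebra 𝒜]

theorem exists_degOne_mem (hgen : (HomogeneousIdeal.irrelevant 𝒜).toIdeal = Ideal.span (𝒜 1 : Set A))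
    (x : Proj 𝒜) : ∃ f : A, f ∈ 𝒜 1 ∧ x ∈ Proj.basicOpen 𝒜 f := by
  have h := Proj.iSup_basicOpen_eq_top 𝒜 (fun f : 𝒜 1 => (f : A)) (by rw [hgen, Subtype.range_coe_subtype]; rfl)
  obtain ⟨⟨f, hf⟩, hx⟩ := Opens.mem_iSup.1 (h.ge (Set.mem_univ x))
  exact ⟨f, hf, hx⟩

/-- Finite type and quasi-compactness from the charts over degree one. -/
theorem finiteType_of_charts (hgen : (HomogeneousIdeal.irrelevant 𝒜).toIdeal = Ideal.span (𝒜 1 : Set A))
    {X : Scheme.{u}} (π : X ⟶ Proj 𝒜) (L : ∀ f : A, Type u) [∀ f, CommRing (L f)]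
    [∀ f, Algebra (Away 𝒜 f) (L f)] [∀ f, Algebra.FiniteType (Away 𝒜 f) (L f)]
    (h : ∀ (f : A) (hf : f ∈ 𝒜 1), ∃ p : Spec (CommRingCat.of (L f)) ⟶ X,
      IsPullback p (Spec.map (CommRingCat.ofHom (algebraMap (Away 𝒜 f) (L f)))) π (Proj.awayι 𝒜 f hf Nat.one_pos)) :
    LocallyOfFiniteType π ∧ QuasiCompact π := by
  choose f hf hx using exists_degOne_mem hgen
  choose p hp using h
  let 𝒰 : (Proj 𝒜).OpenCover := Scheme.Cover.mkOfCovers (Proj 𝒜) (fun x => Spec (CommRingCat.of (Away 𝒜 (f x))))
    (fun x => Proj.awayι 𝒜 (f x) (hf x) Nat.one_pos)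
    (fun x => by
      have := hx x
      rw [← Proj.opensRange_awayι 𝒜 (f x) (hf x) Nat.one_pos] at this
      exact ⟨x, this⟩) (fun x => inferInstance)
  have prop : ∀ (P : MorphismProperty Scheme.{u}) [IsZariskiLocalAtTarget P] [P.RespectsIso],
      (∀ x, P (Spec.map (CommRingCat.ofHom (algebraMap (Away 𝒜 (f x)) (L (f x)))))) → P π := fun P _ _ hP' => by
    refine IsZariskiLocalAtTarget.of_openCover (P := P) 𝒰 fun x => ?_
    change P (pullback.snd π (Proj.awayι 𝒜 (f x) (hf x) Nat.one_pos))
    rw [← (hp (f x) (hf x)).isoPullback_inv_snd, P.cancel_left_of_respectsIso]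
    exact hP' x
  refine ⟨prop @LocallyOfFiniteType fun x => ?_, prop @QuasiCompact fun x => inferInstance⟩
  rw [HasRingHomProperty.Spec_iff (P := @LocallyOfFiniteType)]
  exact RingHom.finiteType_algebraMap.2 inferInstance

end Cover

end Groth.Agent.PConeLib
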