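import Groth.Prelude.Def_PCone
import Groth.Prelude.Def_Cone
import Mathlib.AlgebraicGeometry.ProjectiveSpectrum.Proper
import Mathlib.AlgebraicGeometry.Morphisms.Affine

/-!
# Charts of the pointed projective cone and of the pointed affine cone
-/

set_option autoImplicit false
set_option linter.style.haveILetI false
set_option backward.isDefEq.respectTransparency false
set_option backward.isDefEq.respectTransparency.types false

universe u

open CategoryTheory CategoryTheory.Limits AlgebraicGeometry TopologicalSpace HomogeneousLocalization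

noncomputable section

namespace Groth.Agent.PConeLib

variable {R A : Type u} [CommRing R] [CommRing A] [Algebra R A] {𝒜 : ℕ → Submodule R A} [GradedAlgebra 𝒜]
  {B : Type u} [CommRing B] [Algebra R B] {ℬ : ℕ → Submodule R B} [GradedAlgebra ℬ]

theorem exists_homogeneous_not_mem (x : Proj 𝒜) :
    ∃ (d : ℕ) (f : A), 0 < d ∧ f ∈ 𝒜 d ∧ x ∈ Proj.basicOpen 𝒜 f := by
  by_contra hno
  refine x.not_irrelevant_le fun a ha => ?_
  classical
  have ha' : a ∈ (HomogeneousIdeal.irrelevant 𝒜).toIdeal := ha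
  change a ∈ x.asHomogeneousIdeal.toIdeal
  rw [← DirectSum.sum_support_decompose 𝒜 a]
  refine Ideal.sum_mem _ fun i _ => ?_
  rcases Nat.eq_zero_or_pos i with rfl | hi
  · rw [← GradedRing.proj_apply, (HomogeneousIdeal.mem_irrelevant_iff _ _).mp ha]
    exact Ideal.zero_mem _
  · by_contra hmem
    exact hno ⟨i, _, hi, SetLike.coe_mem _, hmem⟩

theorem awayι_congr {x : A} {m m' : ℕ} (hm : m = m') (h : x ∈ 𝒜 m) (h' : x ∈ 𝒜 m') (p : 0 < m) (p' : 0 < m') :
    Proj.awayι 𝒜 x h p = Proj.awayι 𝒜 x h' p' := by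
  subst hm; rfl

theorem away_map_elem (φ : 𝒜 →+*ᵍ ℬ) {f g : A} {d e : ℕ} (hf : f ∈ 𝒜 d) (hg : g ∈ 𝒜 e) :
    Away.map φ g (Away.isLocalizationElem hg hf) = Away.isLocalizationElem (φ.2 hg) (φ.2 hf) := by
  refine val_injective _ ?_
  simp only [Away.isLocalizationElem, Away.map_mk, Away.val_mk, map_pow]
  rfl

section PCone

variable (φ : 𝒜 →+*ᵍ ℬ)

theorem chart_ι {d : ℕ} {f : A} (hf : f ∈ 𝒜 d) (hd : 0 < d) :
    PCone.chart φ hf hd ≫ (PCone.dom φ).ι = Proj.awayι ℬ (φ f) (φ.2 hf) hd :=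
  IsOpenImmersion.lift_fac _ _ _

theorem isOpenImmersion_chart {d : ℕ} {f : A} (hf : f ∈ 𝒜 d) (hd : 0 < d) :
    IsOpenImmersion (PCone.chart φ hf hd) := by
  haveI : IsOpenImmersion (PCone.chart φ hf hd ≫ (PCone.dom φ).ι) := by rw [chart_ι]; infer_instance
  exact IsOpenImmersion.of_comp _ (PCone.dom φ).ι

theorem mem_opensRange_chart {d : ℕ} {f : A} (hf : f ∈ 𝒜 d) (hd : 0 < d) (z : (PCone.dom φ : Scheme.{u})) :
    z ∈ Set.range (PCone.chart φ hf hd) ↔ (PCone.dom φ).ι z ∈ Proj.basicOpen ℬ (φ f) := by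
  rw [← Proj.opensRange_awayι ℬ (φ f) (φ.2 hf) hd]
  constructor
  · rintro ⟨w, rfl⟩
    refine ⟨w, ?_⟩
    rw [← chart_ι φ hf hd]
    rfl
  · rintro ⟨w, hw⟩
    refine ⟨w, (PCone.dom φ).ι.isOpenEmbedding.injective ?_⟩
    rw [← Scheme.Hom.comp_apply, chart_ι]
    exact hw

theorem exists_chart (z : (PCone.dom φ : Scheme.{u})) :
    ∃ (d : ℕ) (f : A) (hf : f ∈ 𝒜 d) (hd : 0 < d), z ∈ Set.range (PCone.chart φ hf hd) := by
  obtain ⟨⟨f, d, hd, hf⟩, hz⟩ := Opens.mem_iSup.mp z.2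
  exact ⟨d, f, hf, hd, (mem_opensRange_chart φ hf hd z).2 hz⟩

variable {φ} {p : (PCone.dom φ : Scheme.{u}) ⟶ Proj 𝒜}
  (hp : ∀ (d : ℕ) (f : A) (hd : 0 < d) (hf : f ∈ 𝒜 d),
    PCone.chart φ hf hd ≫ p =
      Spec.map (CommRingCat.ofHom (Away.map φ f)) ≫ Proj.awayι 𝒜 f hf hd)

include hp in
theorem preimage_basicOpen {d : ℕ} {f : A} (hd : 0 < d) (hf : f ∈ 𝒜 d) :
    p ⁻¹ᵁ Proj.basicOpen 𝒜 f = (PCone.dom φ).ι ⁻¹ᵁ Proj.basicOpen ℬ (φ f) := by
  ext z
  obtain ⟨e, g, hg, he, w, rfl⟩ := exists_chart φ z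
  change p (PCone.chart φ hg he w) ∈ Proj.basicOpen 𝒜 f ↔
    (PCone.dom φ).ι (PCone.chart φ hg he w) ∈ Proj.basicOpen ℬ (φ f)
  rw [← Scheme.Hom.comp_apply, hp e g he hg, ← Scheme.Hom.comp_apply, chart_ι]
  change Spec.map (CommRingCat.ofHom (Away.map φ g)) w ∈ Proj.awayι 𝒜 g hg he ⁻¹ᵁ Proj.basicOpen 𝒜 f ↔
    w ∈ Proj.awayι ℬ (φ g) (φ.2 hg) he ⁻¹ᵁ Proj.basicOpen ℬ (φ f)
  refine (SetLike.ext_iff.1 (Proj.awayι_preimage_basicOpen 𝒜 hg he hf hd) _).trans ?_
  refine Iff.trans ?_ (SetLike.ext_iff.1 (Proj.awayι_preimage_basicOpen ℬ (φ.2 hg) he (φ.2 hf) hd) _).symm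
  exact Iff.of_eq (congrArg (fun t => t ∉ w.asIdeal) (away_map_elem φ hf hg))

include hp in
theorem isAffineHom : IsAffineHom p := by
  refine isAffineHom_of_forall_exists_isAffineOpen _ fun x => ?_
  obtain ⟨d, f, hd, hf, hx⟩ := exists_homogeneous_not_mem x
  refine ⟨Proj.basicOpen 𝒜 f, hx, ?_, ?_⟩
  · rw [← Proj.opensRange_awayι 𝒜 f hf hd]
    exact isAffineOpen_opensRange _
  · haveI := isOpenImmersion_chart φ hf hd
    have : p ⁻¹ᵁ Proj.basicOpen 𝒜 f = (PCone.chart φ hf hd).opensRange := by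
      rw [preimage_basicOpen hp hd hf]
      ext z
      exact (mem_opensRange_chart φ hf hd z).symm
    rw [this]
    exact isAffineOpen_opensRange _

end PCone

section Cone

variable {d : ℕ} {f : A}

/-- `Spec A_f ⟶ Spec A`. -/
abbrev specAway (f : A) : Spec (CommRingCat.of (Localization.Away f)) ⟶ Spec (CommRingCat.of A) :=
  Spec.map (CommRingCat.ofHom (algebraMap A (Localization.Away f)))

theorem isOpenImmersion_specAway (f : A) : IsOpenImmersion (specAway f) :=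
  IsOpenImmersion.of_isLocalization f

theorem range_specAway (f : A) : Set.range (specAway f) = (Cone.coneOpen f : Set (Spec (CommRingCat.of A))) :=
  PrimeSpectrum.localization_away_comap_range (Localization.Away f) f

theorem cone_chart_ι (hf : f ∈ 𝒜 d) (hd : 0 < d) :
    Cone.chart hf hd ≫ (Cone.pointed 𝒜).ι = specAway f :=
  haveI := isOpenImmersion_specAway f
  IsOpenImmersion.lift_fac _ _ _

theorem isOpenImmersion_cone_chart (hf : f ∈ 𝒜 d) (hd : 0 < d) : IsOpenImmersion (Cone.chart hf hd) := by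
  haveI : IsOpenImmersion (Cone.chart hf hd ≫ (Cone.pointed 𝒜).ι) := by
    rw [cone_chart_ι]; exact isOpenImmersion_specAway f
  exact IsOpenImmersion.of_comp _ (Cone.pointed 𝒜).ι

theorem mem_range_cone_chart (hf : f ∈ 𝒜 d) (hd : 0 < d) (z : (Cone.pointed 𝒜 : Scheme.{u})) :
    z ∈ Set.range (Cone.chart hf hd) ↔ (Cone.pointed 𝒜).ι z ∈ Cone.coneOpen f := by
  rw [← SetLike.mem_coe, ← range_specAway]
  constructor
  · rintro ⟨w, rfl⟩
    exact ⟨w, (congrArg (fun m : Spec _ ⟶ Spec (CommRingCat.of A) => m w) (cone_chart_ι hf hd)).symm⟩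
  · rintro ⟨w, hw⟩
    refine ⟨w, (Cone.pointed 𝒜).ι.isOpenEmbedding.injective ?_⟩
    rw [← Scheme.Hom.comp_apply, cone_chart_ι]
    exact hw

theorem exists_cone_chart (z : (Cone.pointed 𝒜 : Scheme.{u})) :
    ∃ (d : ℕ) (f : A) (hf : f ∈ 𝒜 d) (hd : 0 < d), z ∈ Set.range (Cone.chart hf hd) := by
  classical
  have hz : ¬ (HomogeneousIdeal.irrelevant 𝒜).toIdeal ≤ (z.1 : PrimeSpectrum A).asIdeal := fun h => z.2 h
  obtain ⟨a, ha, haz⟩ := SetLike.not_le_iff_exists.mp hz
  by_contra hno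
  apply haz
  rw [← DirectSum.sum_support_decompose 𝒜 a]
  refine Ideal.sum_mem _ fun i _ => ?_
  rcases Nat.eq_zero_or_pos i with rfl | hi
  · rw [← GradedRing.proj_apply, (HomogeneousIdeal.mem_irrelevant_iff _ _).mp ha]
    exact Ideal.zero_mem _
  · by_contra hmem
    exact hno ⟨i, _, SetLike.coe_mem _, hi, (mem_range_cone_chart _ hi z).2 hmem⟩

/-- `A_f → A_{fg}`. -/
def awayTo (f g x : A) (hx : x = f * g) : Localization.Away f →+* Localization.Away x :=
  Localization.awayLift (algebraMap A _) f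
    (isUnit_of_dvd_unit (map_dvd _ ⟨g, hx⟩) (IsLocalization.Away.algebraMap_isUnit x))

theorem awayTo_comp_algebraMap (f g x : A) (hx : x = f * g) :
    (awayTo f g x hx).comp (algebraMap A (Localization.Away f)) = algebraMap A (Localization.Away x) :=
  IsLocalization.lift_comp _

theorem algebraMap_awayMap {e : ℕ} {g : A} (hg : g ∈ 𝒜 e) (x : A) (hx : x = f * g) :
    (algebraMap (Away 𝒜 x) (Localization.Away x)).comp (awayMap 𝒜 hg hx) =
      (awayTo f g x hx).comp (algebraMap (Away 𝒜 f) (Localization.Away f)) :=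
  RingHom.ext fun a => val_awayMap 𝒜 hg hx a

/-- **The retraction of the pointed affine cone.** -/
theorem existsUnique_retraction :
    ∃! π : (Cone.pointed 𝒜 : Scheme.{u}) ⟶ Proj 𝒜,
      ∀ (d : ℕ) (f : A) (hd : 0 < d) (hf : f ∈ 𝒜 d),
        Cone.chart hf hd ≫ π =
          Spec.map (CommRingCat.ofHom (algebraMap (Away 𝒜 f) (Localization.Away f))) ≫
            Proj.awayι 𝒜 f hf hd := by
  classical
  let ι' := Σ' (d : ℕ) (f : A), 0 < d ∧ f ∈ 𝒜 d
  let 𝒰 : (Cone.pointed 𝒜 : Scheme.{u}).OpenCover := Scheme.Cover.mkOfCovers ι'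
    (fun i => Spec (CommRingCat.of (Localization.Away i.2.1)))
    (fun i => Cone.chart i.2.2.2 i.2.2.1)
    (fun z => by
      obtain ⟨d, f, hf, hd, w, hw⟩ := exists_cone_chart z
      exact ⟨⟨d, f, hd, hf⟩, w, hw⟩)
    (fun i => isOpenImmersion_cone_chart _ _)
  let tgt : ∀ i : ι', Spec (CommRingCat.of (Localization.Away i.2.1)) ⟶ Proj 𝒜 := fun i =>
    Spec.map (CommRingCat.ofHom (algebraMap (Away 𝒜 i.2.1) (Localization.Away i.2.1))) ≫
      Proj.awayι 𝒜 i.2.1 i.2.2.2 i.2.2.1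
  have compat : ∀ i j : ι', pullback.fst (𝒰.f i) (𝒰.f j) ≫ tgt i = pullback.snd (𝒰.f i) (𝒰.f j) ≫ tgt j := by
    rintro ⟨d, f, hd, hf⟩ ⟨e, g, he, hg⟩
    change pullback.fst (Cone.chart hf hd) (Cone.chart hg he) ≫ tgt ⟨d, f, hd, hf⟩ =
      pullback.snd (Cone.chart hf hd) (Cone.chart hg he) ≫ tgt ⟨e, g, he, hg⟩
    haveI := isOpenImmersion_specAway f
    haveI := isOpenImmersion_specAway g
    haveI := isOpenImmersion_specAway (f * g)
    let a := pullback.fst (Cone.chart hf hd) (Cone.chart hg he)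
    let b := pullback.snd (Cone.chart hf hd) (Cone.chart hg he)
    have hc : a ≫ specAway f = b ≫ specAway g := by
      rw [← cone_chart_ι hf hd, ← cone_chart_ι hg he, pullback.condition_assoc]
    have hr : Set.range (a ≫ specAway f) ⊆ Set.range (specAway (f * g)) := by
      rintro _ ⟨w, rfl⟩
      rw [range_specAway]
      change (a ≫ specAway f) w ∈ PrimeSpectrum.basicOpen (f * g)
      rw [PrimeSpectrum.basicOpen_mul]
      refine ⟨?_, ?_⟩
      · change (a ≫ specAway f) w ∈ (Cone.coneOpen f : Set (Spec (CommRingCat.of A)))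
        rw [← range_specAway]
        exact ⟨a w, rfl⟩
      · change (a ≫ specAway f) w ∈ (Cone.coneOpen g : Set (Spec (CommRingCat.of A)))
        rw [hc, ← range_specAway]
        exact ⟨b w, rfl⟩
    let k := IsOpenImmersion.lift (specAway (f * g)) (a ≫ specAway f) hr
    have hk : k ≫ specAway (f * g) = a ≫ specAway f := IsOpenImmersion.lift_fac _ _ _
    have hka : k ≫ Spec.map (CommRingCat.ofHom (awayTo f g (f * g) rfl)) = a := by
      rw [← cancel_mono (specAway f), Category.assoc]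
      refine Eq.trans (congrArg (k ≫ ·) ?_) hk
      change _ = Spec.map _
      rw [← Spec.map_comp, ← CommRingCat.ofHom_comp, awayTo_comp_algebraMap]
    have hkb : k ≫ Spec.map (CommRingCat.ofHom (awayTo g f (f * g) (mul_comm f g))) = b := by
      rw [← cancel_mono (specAway g), Category.assoc, ← hc]
      refine Eq.trans (congrArg (k ≫ ·) ?_) hk
      change _ = Spec.map _
      rw [← Spec.map_comp, ← CommRingCat.ofHom_comp, awayTo_comp_algebraMap]
    change a ≫ tgt ⟨d, f, hd, hf⟩ = b ≫ tgt ⟨e, g, he, hg⟩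
    rw [← hka, ← hkb, Category.assoc, Category.assoc]
    refine congrArg (k ≫ ·) ?_
    simp only [tgt]
    rw [← Spec.map_comp_assoc, ← CommRingCat.ofHom_comp, ← algebraMap_awayMap hg (f * g) rfl,
      CommRingCat.ofHom_comp, Spec.map_comp_assoc, Proj.SpecMap_awayMap_awayι,
      ← Spec.map_comp_assoc, ← CommRingCat.ofHom_comp, ← algebraMap_awayMap hf (f * g) (mul_comm f g),
      CommRingCat.ofHom_comp, Spec.map_comp_assoc, Proj.SpecMap_awayMap_awayι]
    congr 1
  refine ⟨Scheme.Cover.glueMorphisms 𝒰 tgt compat, fun d f hd hf => ?_, fun p hp => ?_⟩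
  · exact Scheme.Cover.ι_glueMorphisms 𝒰 tgt compat ⟨d, f, hd, hf⟩
  · refine Scheme.Cover.hom_ext 𝒰 _ _ fun i => ?_
    rw [Scheme.Cover.ι_glueMorphisms]
    exact hp _ _ _ _

variable {π : (Cone.pointed 𝒜 : Scheme.{u}) ⟶ Proj 𝒜}
  (hπ : ∀ (d : ℕ) (f : A) (hd : 0 < d) (hf : f ∈ 𝒜 d),
    Cone.chart hf hd ≫ π =
      Spec.map (CommRingCat.ofHom (algebraMap (Away 𝒜 f) (Localization.Away f))) ≫
        Proj.awayι 𝒜 f hf hd)

include hπ in
theorem cone_preimage_basicOpen (hd : 0 < d) (hf : f ∈ 𝒜 d) :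
    π ⁻¹ᵁ Proj.basicOpen 𝒜 f = (Cone.pointed 𝒜).ι ⁻¹ᵁ Cone.coneOpen f := by
  ext z
  obtain ⟨e, g, hg, he, w, rfl⟩ := exists_cone_chart z
  change π (Cone.chart hg he w) ∈ Proj.basicOpen 𝒜 f ↔
    (Cone.pointed 𝒜).ι (Cone.chart hg he w) ∈ Cone.coneOpen f
  rw [← Scheme.Hom.comp_apply, hπ e g he hg, ← Scheme.Hom.comp_apply, cone_chart_ι]
  change Spec.map (CommRingCat.ofHom (algebraMap (Away 𝒜 g) (Localization.Away g))) w ∈
      Proj.awayι 𝒜 g hg he ⁻¹ᵁ Proj.basicOpen 𝒜 f ↔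
    algebraMap A (Localization.Away g) f ∉ w.asIdeal
  rw [Proj.awayι_preimage_basicOpen 𝒜 hg he hf hd]
  change (Away.isLocalizationElem hg hf).val ∉ w.asIdeal ↔ _
  have hu : IsUnit (algebraMap A (Localization.Away g) (g ^ d)) := by
    rw [map_pow]; exact (IsLocalization.Away.algebraMap_isUnit g).pow d
  have hval : (Away.isLocalizationElem hg hf).val * algebraMap A (Localization.Away g) (g ^ d) =
      algebraMap A (Localization.Away g) f ^ e := by
    rw [Away.isLocalizationElem, Away.val_mk, Localization.mk_eq_mk', IsLocalization.mk'_spec, map_pow]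
  rw [not_iff_not]
  refine Iff.trans ?_ (w.2.pow_mem_iff_mem e he)
  rw [← hval]
  constructor
  · exact fun h => Ideal.mul_mem_right _ _ h
  · exact fun h => (w.2.mem_or_mem h).resolve_right fun h' => w.2.ne_top (Ideal.eq_top_of_isUnit_mem _ h' hu)

include hπ in
theorem cone_isAffineHom : IsAffineHom π := by
  refine isAffineHom_of_forall_exists_isAffineOpen _ fun x => ?_
  obtain ⟨d, f, hd, hf, hx⟩ := exists_homogeneous_not_mem x
  refine ⟨Proj.basicOpen 𝒜 f, hx, ?_, ?_⟩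
  · rw [← Proj.opensRange_awayι 𝒜 f hf hd]
    exact isAffineOpen_opensRange _
  · haveI := isOpenImmersion_cone_chart hf hd
    have : π ⁻¹ᵁ Proj.basicOpen 𝒜 f = (Cone.chart hf hd).opensRange := by
      rw [cone_preimage_basicOpen hπ hd hf]
      ext z
      exact (mem_range_cone_chart hf hd z).symm
    rw [this]
    exact isAffineOpen_opensRange _

include hπ in
theorem cone_point (z : (Cone.pointed 𝒜 : Scheme.{u})) :
    (π z).asHomogeneousIdeal = (((Cone.pointed 𝒜).ι z).asIdeal).homogeneousCore 𝒜 := by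
  have hpos : ∀ (i : ℕ) (a : A), 0 < i → a ∈ 𝒜 i →
      (a ∈ (π z).asHomogeneousIdeal.toIdeal ↔ a ∈ ((Cone.pointed 𝒜).ι z).asIdeal) := fun i a hi ha =>
    not_iff_not.1 (SetLike.ext_iff.1 (cone_preimage_basicOpen hπ hi ha) z)
  have hiff : ∀ (i : ℕ) (a : A), a ∈ 𝒜 i →
      (a ∈ (π z).asHomogeneousIdeal.toIdeal ↔ a ∈ ((Cone.pointed 𝒜).ι z).asIdeal) := by
    intro i a ha
    rcases Nat.eq_zero_or_pos i with rfl | hi
    · obtain ⟨d, f, hf, hd, hz⟩ := exists_cone_chart z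
      have hfz : f ∉ ((Cone.pointed 𝒜).ι z).asIdeal := (mem_range_cone_chart hf hd z).1 hz
      have hfx : f ∉ (π z).asHomogeneousIdeal.toIdeal := fun h => hfz ((hpos d f hd hf).1 h)
      have hmul := hpos (0 + d) (a * f) (by omega) (SetLike.mul_mem_graded ha hf)
      constructor
      · intro h
        exact (((Cone.pointed 𝒜).ι z).2.mem_or_mem (hmul.1 (Ideal.mul_mem_right _ _ h))).resolve_right hfz
      · intro h
        exact ((π z).isPrime.mem_or_mem (hmul.2 (Ideal.mul_mem_right _ _ h))).resolve_right hfx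
    · exact hpos i a hi ha
  classical
  refine HomogeneousIdeal.ext (Ideal.ext fun a => ?_)
  rw [← DirectSum.sum_support_decompose 𝒜 a]
  constructor <;> intro h <;> refine Ideal.sum_mem _ fun i _ => ?_
  · refine Ideal.mem_homogeneousCore_of_homogeneous_of_mem ⟨i, SetLike.coe_mem _⟩ ((hiff i _ (SetLike.coe_mem _)).1 ?_)
    have := (π z).asHomogeneousIdeal.isHomogeneous i h
    rwa [DirectSum.sum_support_decompose] at this
  · refine (hiff i _ (SetLike.coe_mem _)).2 (Ideal.toIdeal_homogeneousCore_le 𝒜 _ ?_)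
    have := (((Cone.pointed 𝒜).ι z).asIdeal.homogeneousCore 𝒜).isHomogeneous i h
    rwa [DirectSum.sum_support_decompose] at this

include hπ in
theorem cone_surjective : Surjective π := by
  refine ⟨fun x => ?_⟩
  let q : Spec (CommRingCat.of A) := ⟨x.asHomogeneousIdeal.toIdeal, x.isPrime⟩
  have hq : q ∈ Cone.pointed 𝒜 := fun h => x.not_irrelevant_le h
  refine ⟨⟨q, hq⟩, ProjectiveSpectrum.ext ?_⟩
  rw [cone_point hπ]
  exact HomogeneousIdeal.ext (x.asHomogeneousIdeal.isHomogeneous.toIdeal_homogeneousCore_eq_self)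

end Cone

end Groth.Agent.PConeLib
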